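import Groth.Agent.S5376
import Groth.Agent.S12067
import Groth.Agent.H1.Kolchin

/-!
# Points of an affine group acting on comodules; unipotence via points (Kolchin)
-/

set_option autoImplicit false
universe u
open TensorProduct

namespace Groth.Agent.H1.Unip.Points

open Groth.Agent

section
variable {k : Type u} [Field k] {A : Type u} [CommRing A] [HopfAlgebra k A]
variable {V : Type u} [AddCommGroup V] [Module k V] [HopfRep.Comod k A V]

theorem act_eq (g : A →ₐ[k] k) (v : V) :
    HopfRep.Comod.act k A V g v =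
      H40.contr V g.toLinearMap (HopfRep.Comod.coact (k := k) (A := A) v) := rfl

/-- convolution product of two points -/
noncomputable def pmul (g h : A →ₐ[k] k) : A →ₐ[k] k :=
  (Algebra.TensorProduct.lmul' k).comp
    ((Algebra.TensorProduct.map g h).comp (Bialgebra.comulAlgHom k A))

theorem pmul_toLinearMap (g h : A →ₐ[k] k) :
    (pmul g h).toLinearMap =
      g.toLinearMap ∘ₗ (H40.contr A h.toLinearMap) ∘ₗ (CoalgebraStruct.comul (R := k) (A := A)) := by
  ext a
  have aux : ∀ t : A ⊗[k] A, Algebra.TensorProduct.lmul' k (Algebra.TensorProduct.map g h t) =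
      g (H40.contr A h.toLinearMap t) := by
    intro t
    induction t using TensorProduct.induction_on with
    | zero => simp
    | tmul x y => simp [mul_comm]
    | add x y hx hy => simp only [map_add, hx, hy]
  exact aux _

theorem act_mul (g h : A →ₐ[k] k) :
    HopfRep.Comod.act k A V g * HopfRep.Comod.act k A V h = HopfRep.Comod.act k A V (pmul g h) := by
  ext v
  rw [Module.End.mul_apply, act_eq, act_eq, act_eq]
  have h1 := H40.coact_contr_coact (k := k) (C := A) (V := V) h.toLinearMap v
  unfold H40.ρ at h1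
  rw [h1, S5376.contr_lTensor, pmul_toLinearMap]

theorem act_one : HopfRep.Comod.act k A V (Bialgebra.counitAlgHom k A) = 1 := by
  ext v
  rw [act_eq]
  exact H40.contr_counit_coact v

variable (k A V) in
/-- the monoid of operators given by points -/
noncomputable def pointMonoid : Submonoid (Module.End k V) where
  carrier := Set.range (HopfRep.Comod.act k A V)
  one_mem' := ⟨Bialgebra.counitAlgHom k A, act_one⟩
  mul_mem' := by
    rintro _ _ ⟨g, rfl⟩ ⟨h, rfl⟩
    exact ⟨pmul g h, (act_mul g h).symm⟩

/-- (⇒) -/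
theorem nilp_of_unipotent [Algebra.FiniteType k A] (hU : HopfRep.IsUnipotent k A) (g : A →ₐ[k] k)
    [Module.Finite k V] : IsNilpotent (HopfRep.Comod.act k A V g - LinearMap.id) := by
  obtain ⟨F, h0, hlast, hsub, hstep⟩ := S12067.result k A hU V
  set N := HopfRep.Comod.act k A V g - LinearMap.id with hN
  have hmap : ∀ (i : Fin (Module.finrank k V)) (v : V), v ∈ F i.succ → N v ∈ F i.castSucc := by
    intro i v hv
    obtain ⟨y, hy⟩ := (hstep i).2.2 v hv
    have h1 : N v = H40.contr V g.toLinearMap
        (HopfRep.Comod.coact (k := k) (A := A) v - v ⊗ₜ[k] (1 : A)) := by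
      rw [map_sub, H40.contr_tmul, hN, LinearMap.sub_apply, act_eq]
      simp
    rw [h1, ← hy, S5376.contr_rTensor]
    exact Submodule.coe_mem _
  have key : ∀ (j : ℕ) (hj : j < Module.finrank k V + 1) (v : V), v ∈ F ⟨j, hj⟩ →
      (N ^ j) v = 0 := by
    intro j
    induction j with
    | zero =>
      intro hj v hv
      have h2 : (⟨0, hj⟩ : Fin (Module.finrank k V + 1)) = 0 := rfl
      rw [h2, h0, Submodule.mem_bot] at hv
      rw [hv, map_zero]
    | succ j ih =>
      intro hj v hv
      have hj' : j < Module.finrank k V := by omega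
      have h3 := hmap ⟨j, hj'⟩ v hv
      rw [pow_succ, Module.End.mul_apply]
      exact ih (by omega) _ h3
  refine ⟨Module.finrank k V, ?_⟩
  ext v
  have h4 := key (Module.finrank k V) (by omega) v (by
    have h5 : (⟨Module.finrank k V, by omega⟩ : Fin (Module.finrank k V + 1)) = Fin.last _ := rfl
    rw [h5, hlast]; exact Submodule.mem_top)
  rw [h4]; rfl

/-- a vector fixed by all points is a fixed vector of the comodule (reduced, alg. closed) -/
theorem mem_fixedPts_of_forall_act [IsAlgClosed k] [Algebra.FiniteType k A] [IsReduced A]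
    [Module.Finite k V] (w : V) (hw : w ≠ 0)
    (hfix : ∀ g : A →ₐ[k] k, HopfRep.Comod.act k A V g w = w) :
    w ∈ HopfRep.fixedPts k A V := by
  have hE := (S5376.result k A V w).1
  have hrange : (Set.range fun g : A →ₐ[k] k => HopfRep.Comod.act k A V g w) = {w} := by
    have : (fun g : A →ₐ[k] k => HopfRep.Comod.act k A V g w) = fun _ => w := funext hfix
    rw [this]
    have : Nonempty (A →ₐ[k] k) := ⟨Bialgebra.counitAlgHom k A⟩
    exact Set.range_const
  rw [hrange] at hE
  obtain ⟨y, hy⟩ := hE w (Submodule.mem_span_singleton_self w)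
  have hform : ∀ y : ↥(Submodule.span k ({w} : Set V)) ⊗[k] A,
      ∃ a : A, (Submodule.span k ({w} : Set V)).subtype.rTensor A y = w ⊗ₜ[k] a := by
    intro y
    induction y using TensorProduct.induction_on with
    | zero => exact ⟨0, by simp⟩
    | tmul e b =>
      obtain ⟨c, hc⟩ := Submodule.mem_span_singleton.1 e.2
      refine ⟨c • b, ?_⟩
      rw [LinearMap.rTensor_tmul, Submodule.subtype_apply, ← hc, TensorProduct.smul_tmul]
    | add x y hx hy =>
      obtain ⟨a₁, h₁⟩ := hx
      obtain ⟨a₂, h₂⟩ := hy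
      exact ⟨a₁ + a₂, by rw [map_add, h₁, h₂, TensorProduct.tmul_add]⟩
  obtain ⟨a, ha⟩ := hform y
  rw [hy] at ha
  have ha1 : a - 1 = 0 := by
    apply S5376.eq_zero_of_forall_point k A
    intro g
    have h1 := hfix g
    rw [act_eq, ha, H40.contr_tmul] at h1
    have h1' : g a • w = w := h1
    have h2 : (g a - 1) • w = 0 := by rw [sub_smul, one_smul, h1', sub_self]
    rcases smul_eq_zero.1 h2 with h3 | h3
    · rw [map_sub, map_one]; exact h3
    · exact absurd h3 hw
  show HopfRep.Comod.coact (k := k) (A := A) w = w ⊗ₜ[k] (1 : A)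
  rw [ha, sub_eq_zero.1 ha1]

/-- (⇐) -/
theorem fixedPts_ne_bot_of_points [IsAlgClosed k] [Algebra.FiniteType k A] [IsReduced A]
    [Module.Finite k V] [Nontrivial V]
    (H : ∀ g : A →ₐ[k] k, IsNilpotent (HopfRep.Comod.act k A V g - LinearMap.id)) :
    HopfRep.fixedPts k A V ≠ ⊥ := by
  obtain ⟨w, hw, hfix⟩ := Kolchin.kolchin (k := k) (Module.finrank k V) V rfl (pointMonoid k A V)
    (by rintro _ ⟨g, rfl⟩; exact H g)
  have hmem := mem_fixedPts_of_forall_act w hw (fun g => hfix _ ⟨g, rfl⟩)
  intro hbot
  rw [hbot, Submodule.mem_bot] at hmem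
  exact hw hmem

end

end Groth.Agent.H1.Unip.Points
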